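import Groth.Agent.H9Hens.FinitePartScheme
import Groth.Agent.H12AlgSp.Bootstrap
import Mathlib

/-! Etale separated schemes over henselian local rings split off their local rings at the closed fibre. -/

set_option autoImplicit false
set_option linter.style.haveILetI false

universe u

open CategoryTheory CategoryTheory.Limits AlgebraicGeometry TopologicalSpace

namespace Groth.Agent.H26TwC.HensPieces

variable {A : Type u} [CommRing A] [HenselianLocalRing A] {X : Scheme.{u}} (f : X ⟶ Spec (CommRingCat.of A))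

theorem piece [Etale f] [IsSeparated f] (x : X) (hx : f.base x = IsLocalRing.closedPoint A) :
    IsOpenImmersion (X.fromSpecStalk x) ∧ IsClosedImmersion (X.fromSpecStalk x) ∧
      IsFinite (X.fromSpecStalk x ≫ f) ∧ Etale (X.fromSpecStalk x ≫ f) ∧ Surjective (X.fromSpecStalk x ≫ f) := by
  obtain ⟨V₀, hV₀, hxV₀, hV₀qf⟩ := exists_isAffineOpen_mem_and_subset (X := X) (x := x) (U := ⊤) trivial
  let g := V₀.ι ≫ f
  haveI : LocallyQuasiFinite f := H12AlgSp.lqf_of_etale f
  haveI : LocallyQuasiFinite g := inferInstance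
  haveI : IsAffine V₀.toScheme := hV₀
  obtain ⟨W, hWcl, hWfin, hWfib⟩ := H9Hens.exists_finitePart_scheme g
  haveI := hWfin
  let π : W.toScheme ⟶ Spec (CommRingCat.of A) := W.ι ≫ g
  let x' : W.toScheme := ⟨⟨x, hxV₀⟩, hWfib ⟨x, hxV₀⟩ hx⟩
  let T : Set W.toScheme := {z | π.base z = IsLocalRing.closedPoint A ∧ z ≠ x'}
  have hT : IsClosed T := by
    have hTfin : T.Finite := (π.finite_preimage_singleton (IsLocalRing.closedPoint A)).subset fun z hz => hz.1
    rw [← Set.biUnion_of_singleton T]
    exact hTfin.isClosed_biUnion fun z hz => H9Hens.isClosed_singleton_of_integral π z hz.1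
  let U : W.toScheme.Opens := ⟨Tᶜ, hT.isOpen_compl⟩
  have hU : {z : W.toScheme | z ∈ U ∧ π.base z = IsLocalRing.closedPoint A} = {x'} := by
    ext z
    refine ⟨fun ⟨h1, h2⟩ => ?_, fun h => ?_⟩
    · by_contra hne
      exact h1 ⟨h2, hne⟩
    · subst h
      exact ⟨fun h => h.2 rfl, hx⟩
  obtain ⟨C, hCcl, hCU, hCx⟩ := H9Hens.exists_clopen_subset_open π U
    (by rw [hU]; exact H9Hens.isClosed_singleton_of_integral π x' hx)
  have hxC : x' ∈ C := hCx x' (fun h => h.2 rfl) hx
  have hclC : ∀ z : W.toScheme, z ∈ C → z ⤳ x' := by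
    intro z hz
    obtain ⟨y, hzy, hy⟩ := H9Hens.exists_specializes_closedPoint π z
    have hyC : y ∈ C := hzy.mem_closed hCcl hz
    have : y = x' := by
      by_contra hne
      exact hCU hyC ⟨hy, hne⟩
    exact this ▸ hzy
  haveI : IsClosedImmersion C.ι := .of_isPreimmersion _ (by rw [Scheme.Opens.range_ι]; exact hCcl)
  let k : C.toScheme ⟶ X := C.ι ≫ W.ι ≫ V₀.ι
  haveI : IsFinite (k ≫ f) := by
    have : k ≫ f = C.ι ≫ π := by simp [k, π, g]
    rw [this]; infer_instance
  haveI : IsFinite k := IsFinite.of_comp k f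
  haveI : IsOpenImmersion k := inferInstanceAs (IsOpenImmersion (C.ι ≫ W.ι ≫ V₀.ι))
  haveI : IsClosedImmersion k := .of_isPreimmersion k k.isClosedMap.isClosed_range
  let C' : X.Opens := k.opensRange
  haveI : IsAffine C.toScheme := isAffine_of_isAffineHom (k ≫ f)
  have hC' : IsAffineOpen C' := isAffineOpen_opensRange k
  have hxC' : x ∈ C' := ⟨⟨x', hxC⟩, rfl⟩
  have hspec : ∀ z ∈ C', z ⤳ x := by
    rintro _ ⟨c, rfl⟩
    exact ((hclC c.1 c.2).map W.ι.continuous).map V₀.ι.continuous
  have hunit : ∀ b : Γ(X, C'), IsUnit (X.presheaf.germ C' x hxC' b) → IsUnit b := by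
    intro b hb
    have hle : C' ≤ X.basicOpen b := fun z hz =>
      (hspec z hz).mem_open (X.basicOpen b).2 ((X.mem_basicOpen b x hxC').2 hb)
    have := RingedSpace.isUnit_of_isUnit_germ X.toLocallyRingedSpace.toRingedSpace C' b
      fun z hz => (X.mem_basicOpen b z hz).1 (hle hz)
    exact this
  haveI : IsIso (X.presheaf.germ C' x hxC') := by
    rw [ConcreteCategory.isIso_iff_bijective]
    letI := X.presheaf.algebra_section_stalk (U := C') ⟨x, hxC'⟩
    haveI := hC'.isLocalization_stalk ⟨x, hxC'⟩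
    have hM : (hC'.primeIdealOf ⟨x, hxC'⟩).asIdeal.primeCompl ≤ IsUnit.submonoid Γ(X, C') := fun b hb =>
      hunit b (IsLocalization.map_units (X.presheaf.stalk x) ⟨b, hb⟩)
    exact (IsLocalization.atUnits Γ(X, C') (hC'.primeIdealOf ⟨x, hxC'⟩).asIdeal.primeCompl
      (S := X.presheaf.stalk x) hM).bijective
  have hfs : X.fromSpecStalk x = Spec.map (X.presheaf.germ C' x hxC') ≫ hC'.fromSpec := by
    rw [← IsAffineOpen.fromSpecStalk_eq_fromSpecStalk hC' hxC']
    rfl
  haveI hoi : IsOpenImmersion (X.fromSpecStalk x) := by rw [hfs]; infer_instance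
  have hrange : Set.range (X.fromSpecStalk x) = Set.range k := by
    rw [Scheme.range_fromSpecStalk]
    refine Set.Subset.antisymm (fun z hz => ?_) fun z hz => hspec z hz
    exact Specializes.mem_open (show z ⤳ x from hz) C'.2 hxC'
  have hlift : (IsOpenImmersion.isoOfRangeEq (X.fromSpecStalk x) k hrange).hom ≫ k = X.fromSpecStalk x :=
    IsOpenImmersion.isoOfRangeEq_hom_fac _ _ _
  haveI hci : IsClosedImmersion (X.fromSpecStalk x) := by rw [← hlift]; infer_instance
  haveI hfin : IsFinite (X.fromSpecStalk x ≫ f) := by rw [← hlift, Category.assoc]; infer_instance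
  haveI : Etale (X.fromSpecStalk x ≫ f) := inferInstance
  refine ⟨hoi, hci, hfin, inferInstance, ⟨fun s => ?_⟩⟩
  have hc : IsLocalRing.closedPoint A ∈ Set.range (X.fromSpecStalk x ≫ f) :=
    ⟨IsLocalRing.closedPoint _, by rw [Scheme.Hom.comp_apply, Scheme.fromSpecStalk_closedPoint]; exact hx⟩
  exact (IsLocalRing.specializes_closedPoint s).mem_open (X.fromSpecStalk x ≫ f).isOpenMap.isOpen_range hc

/-- A local finite etale algebra with trivial residue extension is trivial. -/
theorem bijective_of_residue {A B : Type u} [CommRing A] [IsLocalRing A] [CommRing B] [IsLocalRing B]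
    [Algebra A B] [Module.Finite A B] [Algebra.Etale A B] [IsLocalHom (algebraMap A B)]
    (ρ : B →+* IsLocalRing.ResidueField A) (hρ : ρ.comp (algebraMap A B) = IsLocalRing.residue A) :
    Function.Bijective (algebraMap A B) := by
  have hs : Function.Surjective ρ := fun c => by
    obtain ⟨a, rfl⟩ := IsLocalRing.residue_surjective c
    exact ⟨algebraMap A B a, RingHom.congr_fun hρ a⟩
  have hker : RingHom.ker ρ = IsLocalRing.maximalIdeal B :=
    IsLocalRing.eq_maximalIdeal (RingHom.ker_isMaximal_of_surjective ρ hs)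
  refine ⟨?_, ?_⟩
  · haveI : Module.Free A B := Module.free_of_flat_of_isLocalRing
    exact FaithfulSMul.algebraMap_injective A B
  · have h : (⊤ : Submodule A B) ≤ LinearMap.range (Algebra.linearMap A B) := by
      refine Submodule.le_of_le_smul_of_le_jacobson_bot Module.Finite.fg_top
        (IsLocalRing.maximalIdeal_le_jacobson ⊥) ?_
      intro b _
      obtain ⟨a, ha⟩ := IsLocalRing.residue_surjective (ρ b)
      have h2 : b - algebraMap A B a ∈ RingHom.ker ρ := by
        rw [RingHom.mem_ker, map_sub, ← ha]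
        exact sub_eq_zero.mpr (RingHom.congr_fun hρ a).symm
      rw [hker, ← Algebra.FormallyUnramified.map_maximalIdeal (R := A) (S := B)] at h2
      rw [Ideal.smul_top_eq_map]
      exact Submodule.mem_sup.mpr ⟨algebraMap A B a, ⟨a, rfl⟩, _, h2, add_sub_cancel _ _⟩
    intro b
    exact h (Submodule.mem_top (x := b))

theorem isIso_piece [Etale f] [IsSeparated f] (x : X) (hx : f.base x = IsLocalRing.closedPoint A)
    (τ' : Spec (CommRingCat.of (IsLocalRing.ResidueField A)) ⟶ Spec (X.presheaf.stalk x))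
    (hτ : τ' ≫ X.fromSpecStalk x ≫ f = Spec.map (CommRingCat.ofHom (IsLocalRing.residue A))) :
    IsIso (X.fromSpecStalk x ≫ f) := by
  obtain ⟨-, -, hfin, het, -⟩ := piece f x hx
  obtain ⟨ψ, hψ⟩ : ∃ ψ, Spec.map ψ = X.fromSpecStalk x ≫ f := ⟨Spec.preimage _, Spec.map_preimage _⟩
  rw [← hψ] at hfin het hτ ⊢
  rw [IsFinite.SpecMap_iff] at hfin
  rw [HasRingHomProperty.Spec_iff (P := @Etale)] at het
  have hloc : IsLocalHom ψ.hom := by
    rw [IsLocalRing.isLocalHom_iff_comap_closedPoint]
    have := congrArg (fun g => g (IsLocalRing.closedPoint (X.presheaf.stalk x))) hψ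
    simp only [Scheme.Hom.comp_apply, Scheme.fromSpecStalk_closedPoint] at this
    exact this.trans hx
  letI := ψ.hom.toAlgebra
  haveI : Module.Finite A (X.presheaf.stalk x) := hfin
  haveI : Algebra.Etale A (X.presheaf.stalk x) := het
  haveI : IsLocalHom (algebraMap A (X.presheaf.stalk x)) := hloc
  have hb := bijective_of_residue (A := A) (B := X.presheaf.stalk x) (Spec.preimage τ').hom (by
    have h := hτ
    rw [← Spec.map_preimage τ', ← Spec.map_comp] at h
    exact congrArg CommRingCat.Hom.hom (Spec.map_injective h))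
  haveI : IsIso ψ := (ConcreteCategory.isIso_iff_bijective ψ).mpr hb
  infer_instance

end Groth.Agent.H26TwC.HensPieces
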