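import Groth.Agent.H21Desc.EtUnibranch
import Groth.Agent.H05EGA4.Topo
import Groth.Agent.H12AlgSp.Bootstrap
import Groth.Agent.S2279
import Groth.Agent.S5267
import Groth.Agent.S19144
import Mathlib

/-! Twisted constant schemes over irreducible geometrically unibranch schemes. -/

set_option autoImplicit false
set_option linter.style.haveILetI false

universe u

open CategoryTheory CategoryTheory.Limits AlgebraicGeometry TopologicalSpace

namespace Groth.Agent.H26TwC.UnibranchPieces

variable {S W : Scheme.{u}} [IrreducibleSpace S] (f : W ⟶ S) [Etale f]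

theorem exists_generic_specializes (w : W) : ∃ l : W, l ⤳ w ∧ f.base l = genericPoint S :=
  Flat.generalizingMap f (genericPoint_specializes (f.base w))

theorem mem_components {l : W} (hl : f.base l = genericPoint S) :
    closure ({l} : Set W) ∈ irreducibleComponents W := by
  haveI : LocallyQuasiFinite f := H12AlgSp.lqf_of_etale f
  refine ⟨isIrreducible_singleton.closure, fun Z hZ hle => ?_⟩
  obtain ⟨z, hz⟩ := QuasiSober.sober hZ.closure isClosed_closure
  have hzl : z ⤳ l := hz.specializes (subset_closure (hle (subset_closure rfl)))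
  have hfz : f.base z = genericPoint S := by
    have h := hzl.map f.continuous
    rw [hl] at h
    exact (h.antisymm (genericPoint_specializes _)).eq
  obtain rfl := H05EGA4.eq_of_specializes_of_fibre f hzl (hfz.trans hl.symm)
  exact subset_closure.trans hz.def.ge

variable (hS : ∀ s : S, CAlg2.IsGeomUnibranch (S.presheaf.stalk s))
include hS

theorem eq_of_specializes {l l' w : W} (hl : f.base l = genericPoint S) (hl' : f.base l' = genericPoint S)
    (h : l ⤳ w) (h' : l' ⤳ w) : l = l' := by
  have hd := (Groth.Agent.S2279.result W).mpr fun y => H21Desc.isPrime_nilradical_stalk f y (hS _)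
  have he : closure ({l} : Set W) = closure {l'} := by
    by_contra hne
    exact Set.disjoint_left.mp (hd (mem_components f hl) (mem_components f hl') hne)
      (specializes_iff_mem_closure.mp h) (specializes_iff_mem_closure.mp h')
  exact (inseparable_iff_closure_eq.mpr he).eq

theorem isClopen_closure {l : W} (hl : f.base l = genericPoint S) : IsClopen (closure ({l} : Set W)) := by
  refine ⟨isClosed_closure, isOpen_iff_forall_mem_open.mpr fun y hy => ?_⟩
  haveI : LocallyQuasiFinite f := H12AlgSp.lqf_of_etale f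
  obtain ⟨T, hT, hyT, -⟩ := exists_isAffineOpen_mem_and_subset (U := (⊤ : S.Opens)) (x := f.base y) trivial
  obtain ⟨V, hV, hyV, hVT⟩ := exists_isAffineOpen_mem_and_subset (U := f ⁻¹ᵁ T) (x := y) hyT
  haveI : IsAffine T.toScheme := hT
  haveI : IsAffine V.toScheme := hV
  let g := f.resLE T V hVT
  haveI : LocallyQuasiFinite g := inferInstance
  have hηT : genericPoint S ∈ T := (genericPoint_specializes _).mem_open T.2 hyT
  let F : Set W := Subtype.val '' (g.base ⁻¹' {⟨genericPoint S, hηT⟩})
  have hF : F.Finite := (g.finite_preimage_singleton _).image _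
  let O : Set W := (V : Set W) \ ⋃ m ∈ F \ {l}, closure ({m} : Set W)
  refine ⟨O, fun z hz => ?_, V.2.sdiff ((hF.subset Set.diff_subset).isClosed_biUnion fun m _ => isClosed_closure),
    hyV, fun h => ?_⟩
  · obtain ⟨m, hmz, hm⟩ := exists_generic_specializes f z
    have hmV : m ∈ V := hmz.mem_open V.2 hz.1
    have hmF : m ∈ F := ⟨⟨m, hmV⟩, Subtype.ext ((congrArg (fun k => k (⟨m, hmV⟩ : V.toScheme))
      (f.resLE_comp_ι hVT)).trans hm), rfl⟩
    by_cases hml : m = l
    · exact hml ▸ specializes_iff_mem_closure.mp hmz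
    · exact absurd (Set.mem_biUnion (t := fun m => closure ({m} : Set W)) (show m ∈ F \ {l} from ⟨hmF, hml⟩)
        (specializes_iff_mem_closure.mp hmz)) hz.2
  · obtain ⟨m, ⟨⟨⟨m', hm'⟩, hmF, rfl⟩, hml⟩, hym⟩ := Set.mem_iUnion₂.mp h
    have hfm : f.base m' = genericPoint S := by
      have := congrArg (fun k => k (⟨m', hm'⟩ : V.toScheme)) (f.resLE_comp_ι hVT)
      exact this.symm.trans (congrArg Subtype.val hmF)
    exact hml (eq_of_specializes f hS hfm hl (specializes_iff_mem_closure.mpr hym) (specializes_iff_mem_closure.mpr hy))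

omit f in
theorem exists_connected_chart {U : Scheme.{u}} (h : U ⟶ S) [Etale h] (v : U) :
    ∃ C : U.Opens, v ∈ C ∧ IsAffine C ∧ ConnectedSpace C ∧ ∃ x : C, h.base x.1 = genericPoint S := by
  obtain ⟨l, hlv, hl⟩ := exists_generic_specializes h v
  let O : U.Opens := ⟨closure {l}, (isClopen_closure h hS hl).2⟩
  obtain ⟨C, hC, hvC, hCO⟩ := exists_isAffineOpen_mem_and_subset (U := O) (x := v) (specializes_iff_mem_closure.mp hlv)
  refine ⟨C, hvC, hC, ?_, ⟨l, hlv.mem_open C.2 hvC⟩, hl⟩
  have hirr : IsPreirreducible (C : Set U) :=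
    (isIrreducible_singleton.closure (s := ({l} : Set U))).isPreirreducible.open_subset C.2 hCO
  exact isConnected_iff_connectedSpace.mp ⟨⟨v, hvC⟩, hirr.isPreconnected⟩

theorem isFinite_piece (P : Over S) (hP : TwC.IsTwConst TwC.Topology.etale P) {Z : Scheme.{u}} (z : Z ⟶ P.left)
    [IsOpenImmersion z] [IsClosedImmersion z] (hs : ((z ≫ P.hom).base ⁻¹' {genericPoint S}).Finite) :
    IsFinite (z ≫ P.hom) := by
  classical
  let g := z ≫ P.hom
  choose U e he hsU I hI using hP
  choose v hv using hsU
  choose C hvC hCa hCc x hx using fun s => haveI := he s; exists_connected_chart hS (e s) (v s)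
  let h : ∀ s, (C s : Scheme.{u}) ⟶ S := fun s => (C s).ι ≫ e s
  have hfin : ∀ s, IsFinite (pullback.snd g (h s)) := fun s => by
    haveI := hCa s; haveI := hCc s
    refine Groth.Agent.S5267.chart P z (e s) (I s) (hI s).some (C s).ι (x s) ?_
    rw [show ((C s).ι ≫ e s).base (x s) = genericPoint S from hx s]
    exact hs
  let G : (∐ fun s : S => (C s : Scheme.{u})) ⟶ S := Sigma.desc h
  have hG : ∀ s, Sigma.ι (fun s : S => (C s : Scheme.{u})) s ≫ G = h s := fun s => Sigma.ι_desc _ _
  have : Etale G := IsZariskiLocalAtSource.sigmaDesc (P := @Etale) fun s => by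
    haveI := he s
    infer_instance
  refine Groth.Agent.H21Diag.of_fpqc_cover_base (@IsFinite) G (fun V hV => ?_) g fun p => ?_
  · have hs : (G.base '' (G ⁻¹ᵁ V : Set _)) = V := by
      refine Set.Subset.antisymm (Set.image_preimage_subset _ _) fun s hsV => ?_
      refine ⟨(Sigma.ι (fun s : S => (C s : Scheme.{u})) s).base ⟨v s, hvC s⟩, ?_, ?_⟩
      · change G.base _ ∈ (V : Set S)
        rw [← Scheme.Hom.comp_apply, hG]
        exact (hv s).symm ▸ hsV
      · rw [← Scheme.Hom.comp_apply, hG]
        exact hv s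
    obtain ⟨K, hKc, hKs, -⟩ :=
      Groth.Agent.S5267.exists_compact_open_image G.continuous G.isOpenMap (V : Set S) hV.isCompact hs
    exact ⟨K, hKc, hKs⟩
  · obtain ⟨⟨s, q⟩, rfl⟩ := (sigmaMk fun s : S => (C s : Scheme.{u})).surjective p
    rw [sigmaMk_mk]
    let j := Sigma.ι (fun s : S => (C s : Scheme.{u})) s
    refine ⟨j.opensRange, ⟨q, rfl⟩, ?_⟩
    have hr : Set.range j.opensRange.ι.base ⊆ Set.range j.base := by
      rw [Scheme.Opens.range_ι]; exact le_refl _
    rw [show j.opensRange.ι ≫ G = IsOpenImmersion.lift j j.opensRange.ι hr ≫ h s by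
        rw [← hG s]; exact (IsOpenImmersion.lift_fac_assoc j j.opensRange.ι hr G).symm,
      ← pullbackLeftPullbackSndIso_inv_snd_snd g (h s),
      MorphismProperty.cancel_left_of_respectsIso (P := @IsFinite)]
    have := hfin s
    infer_instance

end Groth.Agent.H26TwC.UnibranchPieces
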